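import Cfsg.Agent.H85.OmegaEleven.Clauses
import Cfsg.Agent.H85.OddSubfield.Main

/-!
The geometric maximal subgroups of `Ω11(q)`, given the maximality of the frame stabilisers.
-/

set_option autoImplicit false

open Cfsg

namespace Cfsg.Agent.H85.OmegaEleven

open QuadraticMap Module Cfsg.Agent.Orthogonal Cfsg.Agent.H98.OrthMax

/-- All clauses other than the frame clause hold. -/
theorem of_frame {F : Type*} [Field F] [Fintype F] (hodd : Odd (Fintype.card F))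
    (hframe : (Fintype.card F).Prime → ∀ D : Fin 11 → Submodule F (Unit ⊕ (Fin 5 ⊕ Fin 5) → F), Cfsg.Geo.IsOrthogonalMDecomposition (Cfsg.quadFormOdd 5 F) 1 D → Cfsg.Geo.IsMaximalIn (Cfsg.Geo.omegaGL (Cfsg.quadFormOdd 5 F)) (Cfsg.Geo.decompositionStabilizer D ⊓ Cfsg.Geo.omegaGL (Cfsg.quadFormOdd 5 F))) :
    (∀ W : Submodule F (Unit ⊕ (Fin 5 ⊕ Fin 5) → F), W ≠ ⊥ → Cfsg.Geo.IsTotallySingularQuad (Cfsg.quadFormOdd 5 F) W → Cfsg.Geo.IsMaximalIn (Cfsg.Geo.omegaGL (Cfsg.quadFormOdd 5 F)) (Cfsg.Geo.subspaceStabilizer W ⊓ Cfsg.Geo.omegaGL (Cfsg.quadFormOdd 5 F))) ∧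
    (∀ W : Submodule F (Unit ⊕ (Fin 5 ⊕ Fin 5) → F), W ≠ ⊥ → Even (Module.finrank F W) → Cfsg.Geo.IsNondegenerateOn (QuadraticMap.polar (Cfsg.quadFormOdd 5 F)) W → ¬ (Fintype.card F = 3 ∧ Module.finrank F W = 2 ∧ Cfsg.Geo.IsPlusTypeOn (Cfsg.quadFormOdd 5 F) W) → Cfsg.Geo.IsMaximalIn (Cfsg.Geo.omegaGL (Cfsg.quadFormOdd 5 F)) (Cfsg.Geo.subspaceStabilizer W ⊓ Cfsg.Geo.omegaGL (Cfsg.quadFormOdd 5 F))) ∧
    ((Fintype.card F).Prime → ∀ D : Fin 11 → Submodule F (Unit ⊕ (Fin 5 ⊕ Fin 5) → F), Cfsg.Geo.IsOrthogonalMDecomposition (Cfsg.quadFormOdd 5 F) 1 D → Cfsg.Geo.IsMaximalIn (Cfsg.Geo.omegaGL (Cfsg.quadFormOdd 5 F)) (Cfsg.Geo.decompositionStabilizer D ⊓ Cfsg.Geo.omegaGL (Cfsg.quadFormOdd 5 F))) ∧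
    (∀ (F₀ : Subfield F) (r : ℕ) (P : Matrix.GeneralLinearGroup (Unit ⊕ (Fin 5 ⊕ Fin 5)) F), r.Prime → Fintype.card F = Nat.card F₀ ^ r → Cfsg.Geo.IsQuadFormRationalStructure (Cfsg.quadFormOdd 5 F) F₀ P → Cfsg.Geo.IsMaximalIn (Cfsg.Geo.omegaGL (Cfsg.quadFormOdd 5 F)) (Cfsg.Geo.subfieldSubgroup F₀ P ⊓ Cfsg.Geo.omegaGL (Cfsg.quadFormOdd 5 F))) := by
  have h2 : (2 : F) ≠ 0 := Ring.two_ne_zero fun h => by
    have := (FiniteField.even_card_iff_char_two (F := F)).1 h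
    rw [Nat.odd_iff] at hodd
    omega
  rw [← formOdd_coe (F := F) (m := 5)]
  have hQ : Nondeg (formOdd F 5) := formOdd_nondeg F 5 h2
  have hn : finrank F (Unit ⊕ (Fin 5 ⊕ Fin 5) → F) = 11 := by simp [Module.finrank_fintype_fun_eq_card]
  refine ⟨fun W hW0 hW => isMaximalIn_totSing hQ (by omega) hW0 hW fun U hU h => absurd h (by
      have := hU.two_mul_finrank_le hQ; omega),
    fun W hW0 heven hW hex => H85.OmegaEleven.isMaximalIn_even hQ h2 hn hW0 (nondeg_restr_of_nondegenerateOn hW) heven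
      fun hd hx => ?_,
    hframe,
    fun F₀ r P hr hcard hP => H85.OddSubfield.isMaximalIn_subfield F₀ P _ hQ h2 (by simp) (by simp; decide) r hr hcard hP⟩
  · obtain ⟨x, hx, hx0, hQx⟩ := hx
    by_contra h4
    obtain ⟨j, hj⟩ := hodd
    have := Fintype.one_lt_card (α := F)
    exact hex ⟨by omega, hd, isPlusTypeOn_of_singular hd hx hx0 hQx⟩

end Cfsg.Agent.H85.OmegaEleven
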