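import Cfsg.Agent.H85.OmegaEleven.Six
import Cfsg.Agent.H98.OrthMax.Point
import Cfsg.Agent.H98.OrthMax.TotSing
import Cfsg.Agent.Orthogonal.StdForms

/-!
Subspace stabilisers of `Ω₁₁(q)`, `q` odd.
-/

set_option autoImplicit false

namespace Cfsg.Agent.H85.OmegaEleven

open QuadraticMap Module Cfsg.Agent.Orthogonal Cfsg.Agent.H98.OrthMax

variable {F : Type*} [Field F] [Fintype F] {ι : Type} [Fintype ι] [DecidableEq ι] {Q : QuadraticForm F (ι → F)}

/-- Nondegenerate subspaces of even dimension of an eleven-space. -/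
theorem isMaximalIn_even (hQ : Nondeg Q) (h2 : (2 : F) ≠ 0) (hn : finrank F (ι → F) = 11)
    {W : Submodule F (ι → F)} (hW0 : W ≠ ⊥) (hW : Nondeg (restr Q W)) (heven : Even (finrank F W))
    (hex : finrank F W = 2 → (∃ x ∈ W, x ≠ 0 ∧ Q x = 0) → 4 ≤ Fintype.card F) :
    Cfsg.Geo.IsMaximalIn (Cfsg.Geo.omegaGL ⇑Q) (Cfsg.Geo.subspaceStabilizer W ⊓ Cfsg.Geo.omegaGL ⇑Q) := by
  have hr := hQ.finrank_add_perp W
  obtain ⟨j, hj⟩ := heven
  by_cases h6 : finrank F W ≤ 5
  · exact isMaximalIn_nondeg_six hQ (by omega) hW0 hW h2 (by omega)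
      (fun g => exists_not_mem_of_lt (by omega) g) hex
  rw [← stabilizer_inf_omega_perp hQ W]
  have hT := hQ.nondeg_perp hW
  by_cases h1 : 2 ≤ finrank F (perp Q W)
  · exact isMaximalIn_nondeg_six hQ (by omega) (fun e => by rw [e, finrank_bot] at h1; omega) hT h2
      (by rw [hQ.perp_perp]; omega) (fun g => by rw [hQ.perp_perp]; exact exists_not_mem_of_lt (by omega) g)
      (fun h => by omega)
  have hle := Submodule.finrank_le W
  obtain ⟨v, hv, hv0⟩ := Submodule.exists_mem_ne_zero_of_ne_bot (p := perp Q W) fun e => by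
    rw [e, finrank_bot] at hr; omega
  have hTv : perp Q W = Submodule.span F {v} :=
    (Submodule.eq_of_le_of_finrank_le (by simpa using hv) (by rw [finrank_span_singleton hv0]; omega)).symm
  rw [hTv]
  refine isMaximalIn_point hQ (by omega) fun hQv => ?_
  obtain ⟨f, hf, hvf⟩ := hT.exists_partner (u := ⟨v, hv⟩) (fun e => hv0 (congrArg Subtype.val e)) hQv
  have h3 := finrank_hyperbolic_plane (Q := restr Q (perp Q W)) hQv hf hvf
  have h4 := Submodule.finrank_le (Submodule.span F ({(⟨v, hv⟩ : perp Q W), f} : Set (perp Q W)))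
  omega

end Cfsg.Agent.H85.OmegaEleven
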