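import Cfsg.Agent.H98.OrthMax.NondegWrap

/-!
Stabilisers in Ω of nondegenerate subspaces are maximal, as soon as the orthogonal has dimension six.
-/

set_option autoImplicit false

namespace Cfsg.Agent.H85.OmegaEleven

open QuadraticMap Module Cfsg.Agent.Orthogonal Cfsg.Agent.H98.OrthMax

section Abstract

variable {F V : Type*} [Field F] [Fintype F] [AddCommGroup V] [Module F V] [FiniteDimensional F V]
  {Q : QuadraticForm F V} {X : Subgroup (O Q)} {W : Submodule F V}

omit [Fintype F] [FiniteDimensional F V] in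
theorem exists_sep' {U : Submodule F V} (hU : Nondeg (restr Q U)) {u v : V} (hu : u ∈ U) (hv : v ∈ U)
    (hind : v ∉ Submodule.span F {u}) : ∃ x ∈ U, polar Q u x = 0 ∧ polar Q v x ≠ 0 := by
  by_contra hc
  push Not at hc
  rcases eq_or_ne u 0 with rfl | hu0
  · have : (⟨v, hv⟩ : U) = 0 := hU ⟨v, hv⟩ fun x => by
      rw [polar_restr]; exact hc x x.2 (polar_zero_left ..)
    exact hind (by rw [show v = 0 from congrArg Subtype.val this]; exact Submodule.zero_mem _)
  obtain ⟨⟨f, hf⟩, huf⟩ := hU.exists_polar_eq (x := ⟨u, hu⟩) (fun e => hu0 (congrArg Subtype.val e)) 1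
  rw [polar_restr] at huf
  have : (⟨v - polar Q v f • u, U.sub_mem hv (U.smul_mem _ hu)⟩ : U) = 0 := hU _ fun x => by
    rw [polar_restr]
    have h := hc ((x : V) - polar Q u x • f) (U.sub_mem x.2 (U.smul_mem _ hf))
      (by rw [polar_sub_right, polar_smul_right', huf, mul_one, sub_self])
    rw [polar_sub_right, polar_smul_right'] at h
    rw [polar_sub_left, polar_smul_left']
    linear_combination h
  exact hind (Submodule.mem_span_singleton.2 ⟨_, (sub_eq_zero.1 (congrArg Subtype.val this)).symm⟩)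

theorem sieGroup_le_of_six (hQ : Nondeg Q) (hn : 5 ≤ finrank F V) (hW : Nondeg (restr Q W))
    (h2' : (2 : F) ≠ 0) (hd : 6 ≤ finrank F (perp Q W))
    (hnoiso : ∀ g : O Q, ∃ v ∈ perp Q W, (g : V ≃ₗ[F] V) v ∉ W)
    (hex : finrank F W = 2 → (∃ x ∈ W, x ≠ 0 ∧ Q x = 0) → 4 ≤ Fintype.card F)
    (hX : ∀ x ∈ commutator (O Q), (∀ v ∈ W, (x : V ≃ₗ[F] V) v ∈ W) → x ∈ X)
    (hg : ∃ g ∈ X, ∃ v ∈ W, (g : V ≃ₗ[F] V) v ∉ W) : sieGroup Q ≤ X := by
  set U := perp Q W with hUdef
  have hU : Nondeg (restr Q U) := hQ.nondeg_perp hW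
  have hperpU : perp Q U = W := hQ.perp_perp W
  have hdisj : U ⊓ W = ⊥ := by rw [inf_comm]; exact (nondeg_restr_iff W).1 hW
  have hdec : ∀ z : V, ∃ p ∈ U, ∃ q ∈ W, z = p + q := fun z => by
    obtain ⟨q, hq, p, hp, hqp⟩ := Submodule.mem_sup.1
      ((hQ.isCompl_perp hW).sup_eq_top ▸ Submodule.mem_top : z ∈ W ⊔ perp Q W)
    exact ⟨p, hp, q, hq, by rw [← hqp, add_comm]⟩
  have hcomm : ∀ u w (hu : Q u = 0) (hw : polar Q u w = 0), sie u w hu hw ∈ commutator (O Q) :=
    fun u w hu hw => by rw [← sieGroup_eq_commutator hQ hn]; exact sie_mem hu hw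
  have hfixX : ∀ x ∈ commutator (O Q), (∀ v ∈ W, (x : V ≃ₗ[F] V) v = v) → x ∈ X := fun x hx h =>
    hX x hx fun v hv => by rw [h v hv]; exact hv
  have hWU : ∀ {z v : V}, z ∈ U → v ∈ W → polar Q z v = 0 := fun hz hv => by
    rw [polar_comm]; exact hz _ hv
  have hUroot : ∀ u w (hu : Q u = 0) (hw : polar Q u w = 0), u ∈ U → w ∈ U → sie u w hu hw ∈ X :=
    fun u w hu hw huU hwU => hfixX _ (hcomm u w hu hw) fun v hv =>
      sie_fix' hu hw (hWU huU hv) (hWU hwU hv)
  obtain ⟨g, hgX, v₀, hv₀, hv₀'⟩ := hg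
  -- some Eichler transformation in `X` moves `U`
  obtain ⟨a, b, hQa, hab, hmem, x₀, hx₀, hx₀'⟩ : ∃ (a b : V) (hQa : Q a = 0) (hab : polar Q a b = 0),
      sie a b hQa hab ∈ X ∧ ∃ x ∈ U, (sie a b hQa hab : V ≃ₗ[F] V) x ∉ U := by
    by_contra hc
    push Not at hc
    have hmap : ∀ u ∈ U, u ≠ 0 → Q u = 0 → (g : V ≃ₗ[F] V) u ∈ U ∨ (g : V ≃ₗ[F] V) u ∈ W := by
      intro u huU hu0 hu
      obtain ⟨f, hf, huf⟩ := hU.exists_partner (u := ⟨u, huU⟩) (fun h => hu0 (congrArg Subtype.val h)) hu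
      rw [polar_restr] at huf
      rw [restr_apply] at hf
      obtain ⟨w, hwU, hw0, hwu, hwf, hw⟩ := exists_mid_singular hU (by omega) huU f.2 hu hf huf
      have hgu : Q ((g : V ≃ₗ[F] V) u) = 0 := by rw [O.map_app]; exact hu
      have hgw : polar Q ((g : V ≃ₗ[F] V) u) ((g : V ≃ₗ[F] V) w) = 0 := by rw [O.polar_app]; exact hwu
      refine mem_or_mem_of_plane (Q := Q) hdisj hperpU (b := (g : V ≃ₗ[F] V) w) (fun c hcw => ?_) fun x hx => ?_
      · have hwc : w = c • u := (g : V ≃ₗ[F] V).injective (by rw [map_smul, hcw])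
        rw [hwc, polar_smul_right', polar_comm, huf, mul_one] at hwf
        exact hw0 (by rw [hwc, hwf, zero_smul])
      · have hm := hc _ _ hgu hgw (sie_conj hu hwu g ▸ X.mul_mem (X.mul_mem hgX (hUroot u w hu hwu huU hwU))
          (X.inv_mem hgX)) x hx
        rw [sie_app, O.map_app, hw, zero_mul, sub_zero, add_sub_assoc] at hm
        exact (U.add_mem_iff_right hx).1 hm
    obtain ⟨u₁, hu₁0, hu₁⟩ := hU.exists_singular (by omega)
    have hall : ∀ T T' : Submodule F V, T ⊓ T' = ⊥ → (∀ p ∈ T, ∀ q ∈ T', polar Q p q = 0) →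
        (g : V ≃ₗ[F] V) u₁ ∈ T → (∀ u ∈ U, u ≠ 0 → Q u = 0 → (g : V ≃ₗ[F] V) u ∈ T ∨ (g : V ≃ₗ[F] V) u ∈ T') →
        ∀ v ∈ U, (g : V ≃ₗ[F] V) v ∈ T := by
      intro T T' hTT' horth hT hor v hv
      have hsing : ∀ u : U, Q (u : V) = 0 → (g : V ≃ₗ[F] V) u ∈ T := by
        intro u hu
        rcases eq_or_ne u 0 with rfl | hu0
        · rw [Submodule.coe_zero, map_zero]; exact T.zero_mem
        obtain ⟨f, hf, h1, h2⟩ := exists_common_partner hU (by omega) hu₁0 hu0 hu₁ hu
        rw [polar_restr] at h1 h2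
        rw [restr_apply] at hf
        have hf0 : (f : V) ≠ 0 := fun h => h1 (by rw [h, polar_zero_right])
        have hfT : (g : V ≃ₗ[F] V) f ∈ T := (hor f f.2 hf0 hf).resolve_right fun h =>
          h1 (by rw [← O.polar_app g]; exact horth _ hT _ h)
        exact (hor u u.2 (fun h => hu0 (Subtype.ext h)) hu).resolve_right fun h =>
          h2 (by rw [← O.polar_app g, polar_comm]; exact horth _ hfT _ h)
      have := span_singular hU (by omega) ((T.comap ((g : V ≃ₗ[F] V) : V →ₗ[F] V)).comap U.subtype)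
        (fun u hu => hsing u hu)
      exact (this.symm ▸ Submodule.mem_top : (⟨v, hv⟩ : U) ∈ _)
    rcases hmap u₁ u₁.2 (fun h => hu₁0 (Subtype.ext h)) hu₁ with h | h
    · have hgU := hall U W hdisj (fun p hp q hq => hWU hp hq) h hmap
      have := perp_invariant g hgU
      rw [hperpU] at this
      exact hv₀' (this v₀ hv₀)
    · have hgW := hall W U (by rw [inf_comm]; exact hdisj) (fun p hp q hq => by rw [polar_comm]; exact hWU hq hp) h
        (fun u h1 h2 h3 => (hmap u h1 h2 h3).symm)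
      obtain ⟨v, hv, hv'⟩ := hnoiso g
      exact hv' (hgW v hv)
  -- two of its fixed singular vectors in `U`
  obtain ⟨pa, hpa, qa, hqa, hae⟩ := hdec a
  obtain ⟨pb, hpb, qb, hqb, hbe⟩ := hdec b
  obtain ⟨u, f, huU, hfU, hu, hf, huf, hhu, w₀, hw₀U, hw₀u, hw₀'⟩ : ∃ u f, u ∈ U ∧ f ∈ U ∧ Q u = 0 ∧ Q f = 0 ∧
      polar Q u f = 1 ∧ (sie a b hQa hab : V ≃ₗ[F] V) u = u ∧
      ∃ w ∈ U, polar Q u w = 0 ∧ (sie a b hQa hab : V ≃ₗ[F] V) w ∉ U := by
    set L := U ⊓ perp Q (Submodule.span F {pa, pb}) with hL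
    have hL4 : 4 ≤ finrank F L := by
      have h1 : finrank F (Submodule.span F ({pa, pb} : Set V)) ≤ 2 := by
        classical
        rw [show ({pa, pb} : Set V) = ↑({pa, pb} : Finset V) from by simp]
        exact (finrank_span_finset_le_card _).trans Finset.card_le_two
      have h3 := hQ.finrank_add_perp (Submodule.span F ({pa, pb} : Set V))
      have h5 := Submodule.finrank_sup_add_finrank_inf_eq U (perp Q (Submodule.span F ({pa, pb} : Set V)))
      have h6 := Submodule.finrank_le (U ⊔ perp Q (Submodule.span F ({pa, pb} : Set V)))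
      rw [← hL] at h5
      omega
    have hfix : ∀ z ∈ L, (sie a b hQa hab : V ≃ₗ[F] V) z = z := by
      intro z hz
      obtain ⟨h1, h2⟩ := (mem_perp_span_pair _).1 hz.2
      refine sie_fix' hQa hab ?_ ?_
      · rw [hae, polar_add_left, h1, polar_comm, hWU hz.1 hqa, add_zero]
      · rw [hbe, polar_add_left, h2, polar_comm, hWU hz.1 hqb, add_zero]
    have hsing : ∀ T : Submodule F V, 3 ≤ finrank F T → ∃ t ∈ T, t ≠ 0 ∧ Q t = 0 := by
      intro T h3
      by_contra hcon
      push Not at hcon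
      have hTn : Nondeg (restr Q T) := fun x hx => by
        by_contra h0
        have := hx x
        rw [polar_self', restr_apply] at this
        exact hcon x x.2 (fun e => h0 (Subtype.ext e)) ((mul_eq_zero.1 this).resolve_left h2')
      obtain ⟨t, ht0, ht⟩ := hTn.exists_singular h3
      rw [restr_apply] at ht
      exact hcon t t.2 (fun e => ht0 (Subtype.ext e)) ht
    obtain ⟨u₁, hu₁L, hu₁0, hu₁⟩ := hsing L (by omega)
    obtain ⟨u₂, hu₂L, hu₂, hind⟩ : ∃ u₂ ∈ L, Q u₂ = 0 ∧ u₂ ∉ Submodule.span F {u₁} := by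
      obtain ⟨⟨f₁, hf₁⟩, huf₁⟩ := hU.exists_polar_eq (x := ⟨u₁, hu₁L.1⟩)
        (fun e => hu₁0 (congrArg Subtype.val e)) 1
      rw [polar_restr] at huf₁
      -- a hyperplane of `L` not containing the first vector
      obtain ⟨z, hz⟩ : ∃ z : V, polar Q z u₁ = 1 := ⟨f₁, by rw [polar_comm]; exact huf₁⟩
      have h3 : 3 ≤ finrank F ↥(L ⊓ perp Q (Submodule.span F {z})) := by
        have h1 := Submodule.finrank_sup_add_finrank_inf_eq L (perp Q (Submodule.span F {z}))
        have h5 := hQ.finrank_perp_singleton (show z ≠ 0 from fun e => by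
          rw [e, polar_zero_left] at hz; exact zero_ne_one hz)
        have h6 := Submodule.finrank_le (L ⊔ perp Q (Submodule.span F {z}))
        omega
      obtain ⟨t, ht, ht0, hQt⟩ := hsing _ h3
      refine ⟨t, ht.1, hQt, fun hm => ?_⟩
      obtain ⟨c, rfl⟩ := Submodule.mem_span_singleton.1 hm
      have := (mem_perp_span_singleton Q).1 ht.2
      rw [polar_smul_right', hz, mul_one] at this
      exact ht0 (by rw [this, zero_smul])
    have hpartner : ∀ u ∈ L, u ≠ 0 → Q u = 0 → ∃ f ∈ U, Q f = 0 ∧ polar Q u f = 1 := fun u hu hu0 hQu => by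
      obtain ⟨f, hf, huf⟩ := hU.exists_partner (u := ⟨u, hu.1⟩) (fun e => hu0 (congrArg Subtype.val e)) hQu
      rw [polar_restr] at huf
      exact ⟨f, f.2, hf, huf⟩
    have hu₂0 : u₂ ≠ 0 := fun e => hind (e ▸ Submodule.zero_mem _)
    by_contra hcon
    push Not at hcon
    have hout : ∀ u ∈ L, u ≠ 0 → Q u = 0 → ∀ w ∈ U, polar Q u w = 0 → (sie a b hQa hab : V ≃ₗ[F] V) w ∈ U := by
      intro u hu hu0 hQu w hw huw
      obtain ⟨f, hfU, hf, huf⟩ := hpartner u hu hu0 hQu
      exact hcon u f hu.1 hfU hQu hf huf (hfix u hu) w hw huw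
    obtain ⟨x, hx, hxl, hux⟩ := exists_sep' hU hu₁L.1 hu₂L.1 hind
    have h1 := hout u₁ hu₁L hu₁0 hu₁ x hx hxl
    have h2 := hout u₂ hu₂L hu₂0 hu₂ _ (U.sub_mem hx₀ (U.smul_mem (polar Q u₂ x₀ / polar Q u₂ x) hx))
      (by rw [polar_sub_right, polar_smul_right', div_mul_cancel₀ _ hux, sub_self])
    rw [map_sub, map_smul, U.sub_mem_iff_left (U.smul_mem _ h1)] at h2
    exact hx₀' h2
  -- a root with centre `u` leading out of `U`
  obtain ⟨p, hp, b₀, hb₀, hwe⟩ := hdec ((sie a b hQa hab : V ≃ₗ[F] V) w₀)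
  have hb₀0 : b₀ ≠ 0 := fun h => hw₀' (by rw [hwe, h, add_zero]; exact hp)
  have hub : ∀ {y : V}, y ∈ W → polar Q u y = 0 := fun hy => hWU huU hy
  have hw1 : polar Q u ((sie a b hQa hab : V ≃ₗ[F] V) w₀) = 0 := by
    conv_lhs => rw [← hhu]
    rw [O.polar_app]; exact hw₀u
  have hup : polar Q u p = 0 := by
    rw [hwe, polar_add_right, hub hb₀, add_zero] at hw1
    exact hw1
  have hroot : sie u b₀ hu (hub hb₀) ∈ X := by
    have h := X.mul_mem (X.mul_mem hmem (hUroot u w₀ hu hw₀u huU hw₀U)) (X.inv_mem hmem)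
    rw [sie_conj] at h
    have h' := X.mul_mem (X.inv_mem (hUroot u p hu hup huU hp)) h
    convert h' using 1
    rw [eq_inv_mul_iff_mul_eq, sie_mul]
    exact sie_congr _ _ _ _ hhu.symm hwe.symm
  -- all of `W` is admissible
  let T : Submodule F W :=
    { carrier := {y | ∀ (c : F) (hw : polar Q u (c • (y : V)) = 0), sie u (c • (y : V)) hu hw ∈ X}
      zero_mem' := fun c hw => by
        convert X.one_mem
        exact O.ext_app fun x => by rw [sie_app]; simp
      add_mem' := fun {y y'} hy hy' c hw => by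
        have := X.mul_mem (hy c (hub (W.smul_mem c y.2))) (hy' c (hub (W.smul_mem c y'.2)))
        rw [sie_mul] at this
        convert this using 1
        exact sie_congr _ _ _ _ rfl (by rw [Submodule.coe_add, smul_add])
      smul_mem' := fun s y hy c hw => by
        convert hy (c * s) (hub (W.smul_mem _ y.2)) using 1
        exact sie_congr _ _ _ _ rfl (by rw [Submodule.coe_smul, smul_smul]) }
  have hT0 : (⟨b₀, hb₀⟩ : W) ∈ T := by
    intro c hw
    rcases eq_or_ne c 0 with rfl | hc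
    · convert X.one_mem
      exact O.ext_app fun x => by rw [sie_app]; simp
    obtain ⟨t, ht, htu, htW⟩ := exists_torus hQ hU (by omega) huU hfU hu hf huf hc
    rw [hperpU] at htW
    have h := X.mul_mem (X.mul_mem (hfixX t ht htW) hroot) (X.inv_mem (hfixX t ht htW))
    rw [sie_conj, sie_congr _ _ (by rw [qmap_smul, hu, mul_zero]) (by rw [polar_smul_left', hub hb₀, mul_zero])
      htu (htW b₀ hb₀), sie_smul hu (hub hb₀)] at h
    exact h
  have hinv : ∀ h ∈ commutator (O Q), (h : V ≃ₗ[F] V) u = u → ∀ hh : ∀ v ∈ W, (h : V ≃ₗ[F] V) v ∈ W,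
      ∀ y ∈ T, (⟨(h : V ≃ₗ[F] V) (y : W), hh _ (y : W).2⟩ : W) ∈ T := by
    intro h hhc hhu hh y hy c hw
    have hX' := hX h hhc hh
    have := X.mul_mem (X.mul_mem hX' (hy c (hub (W.smul_mem c y.2)))) (X.inv_mem hX')
    rw [sie_conj] at this
    convert this using 1
    exact sie_congr _ _ _ _ hhu.symm (map_smul _ _ _).symm
  have hTtop : T = ⊤ := by
    refine eq_top_of_invariant hW T (fun h => hb₀0 ?_) (fun h2 hx => ?_) ?_ ?_
    · exact congrArg Subtype.val ((Submodule.mem_bot F).1 (h ▸ hT0) : (⟨b₀, hb₀⟩ : W) = 0)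
    · obtain ⟨x, hx0, hx⟩ := hx
      exact hex h2 ⟨x, x.2, fun h => hx0 (Subtype.ext h), hx⟩
    · intro a' y ha' hy
      rw [restr_apply] at ha'
      obtain ⟨c, hcU, hcu, -, hc⟩ := exists_mid hU (by omega) huU hfU hu hf huf (Q (a' : V))
      have hc1 : ∀ v ∈ W, (rO Q (a' : V) * rO Q c : O Q).1 v =
          v - ((Q (a' : V))⁻¹ * polar Q (a' : V) v) • (a' : V) := fun v hv => by
        rw [Subgroup.coe_mul, mul_app, rO_fix (v := c) (x := v) (hWU hcU hv), rO_app]
      have := hinv _ (rO_mul_mem hQ ha' hc) (by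
        rw [Subgroup.coe_mul, mul_app, rO_fix (v := c) (by rw [polar_comm]; exact hcu),
          rO_fix (v := (a' : V)) (by rw [polar_comm]; exact hub a'.2)])
        (fun v hv => by rw [hc1 v hv]; exact W.sub_mem hv (W.smul_mem _ a'.2)) y hy
      convert this using 1
      refine Subtype.ext ?_
      rw [Submodule.coe_sub, Submodule.coe_smul, polar_restr, restr_apply]
      exact (hc1 _ y.2).symm
    · intro x y' y hx hxy hy
      rw [restr_apply] at hx
      rw [polar_restr] at hxy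
      have := hinv (sie (x : V) (y' : V) hx hxy) (hcomm _ _ hx hxy)
        (sie_fix' hx hxy (by rw [polar_comm]; exact hub x.2) (by rw [polar_comm]; exact hub y'.2))
        (fun v hv => by rw [sie_app]; exact W.sub_mem (W.add_mem hv (W.smul_mem _ x.2)) (W.smul_mem _ y'.2)) y hy
      convert this using 1
      refine Subtype.ext ?_
      simp only [sie_app, Submodule.coe_sub, Submodule.coe_add, Submodule.coe_smul, polar_restr, restr_apply]
  have hfull : Full X u := fun w _ hw => by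
    obtain ⟨p', hp', q', hq', hpq⟩ := hdec w
    have hup' : polar Q u p' = 0 := by
      rw [hpq, polar_add_right, hub hq', add_zero] at hw
      exact hw
    have h1 : sie u q' hu (hub hq') ∈ X := by
      have := (hTtop ▸ Submodule.mem_top : (⟨q', hq'⟩ : W) ∈ T) 1 (by rw [one_smul]; exact hub hq')
      convert this using 1
      exact sie_congr _ _ _ _ rfl (one_smul F q').symm
    have := X.mul_mem (hUroot u p' hu hup' huU hp') h1
    rw [sie_mul] at this
    convert this using 1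
    exact sie_congr _ _ _ _ rfl hpq
  -- a second centre
  obtain ⟨w₂, hw₂U, hw₂u, hw₂f, hw₂⟩ := exists_mid hU (by omega) huU hfU hu hf huf 1
  have hmem₂ := hUroot f w₂ hf hw₂f hfU hw₂U
  refine sieGroup_le_of_pair hQ (by omega) hfull (hfull.map hmem₂) hu (by rw [O.map_app]; exact hu) ?_
  rw [sie_app, hw₂, polar_comm (⇑Q) f u, huf, polar_comm (⇑Q) w₂ u, hw₂u, polar_sub_right, polar_add_right,
    polar_smul_right', polar_smul_right', polar_self', hu, huf, hw₂u]
  norm_num

end Abstract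

variable {F : Type*} [Field F] [Fintype F] {ι : Type} [Fintype ι] [DecidableEq ι] {Q : QuadraticForm F (ι → F)}

theorem isMaximalIn_nondeg_six (hQ : Nondeg Q) (hn : 5 ≤ finrank F (ι → F)) {W : Submodule F (ι → F)}
    (hW0 : W ≠ ⊥) (hW : Nondeg (restr Q W)) (h2' : (2 : F) ≠ 0) (hd : 6 ≤ finrank F (perp Q W))
    (hnoiso : ∀ g : O Q, ∃ v ∈ perp Q W, (g : (ι → F) ≃ₗ[F] (ι → F)) v ∉ W)
    (hex : finrank F W = 2 → (∃ x ∈ W, x ≠ 0 ∧ Q x = 0) → 4 ≤ Fintype.card F) :
    Cfsg.Geo.IsMaximalIn (Cfsg.Geo.omegaGL ⇑Q) (Cfsg.Geo.subspaceStabilizer W ⊓ Cfsg.Geo.omegaGL ⇑Q) := by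
  refine isMaximalIn_omega hQ hn _ ?_ fun X hX hg => ?_
  · obtain ⟨u, hu0, hu⟩ := (hQ.nondeg_perp hW).exists_singular (by omega)
    rw [restr_apply] at hu
    obtain ⟨b, hb, hb0⟩ := (Submodule.ne_bot_iff W).1 hW0
    obtain ⟨x, hx⟩ := hW.exists_polar_eq (x := ⟨b, hb⟩) (fun h => hb0 (congrArg Subtype.val h)) 1
    rw [polar_restr] at hx
    have hub : polar Q (u : ι → F) b = 0 := (polar_comm (⇑Q) (u : ι → F) b).trans (u.2 b hb)
    have hux : polar Q (u : ι → F) x = 0 := (polar_comm (⇑Q) (u : ι → F) x).trans (u.2 x x.2)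
    refine ⟨sie (u : ι → F) b hu hub, sie_mem_commutator hQ hn hu hub, fun hmem => ?_⟩
    have h1 := ((H96.mem_subspaceStabilizer_om Q W _).1 hmem x).1 x.2
    rw [sie_app, hx, hux, mul_zero, sub_zero, one_smul, zero_smul, sub_zero, W.add_mem_iff_right x.2] at h1
    have : (u : ι → F) ∈ W ⊓ perp Q W := ⟨h1, u.2⟩
    rw [(nondeg_restr_iff W).1 hW, Submodule.mem_bot] at this
    exact hu0 (Subtype.ext this)
  refine sieGroup_le_of_six hQ hn hW h2' hd hnoiso hex (fun x hx h => hX x hx ?_) ?_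
  · exact (H96.mem_subspaceStabilizer_om Q W x).2 fun v => stab_iff_of_le x h v
  · obtain ⟨g, hg, hgS⟩ := hg
    refine ⟨g, hg, ?_⟩
    by_contra hc
    push Not at hc
    exact hgS ((H96.mem_subspaceStabilizer_om Q W g).2 fun v => stab_iff_of_le g hc v)

end Cfsg.Agent.H85.OmegaEleven
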